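import Mathlib.RingTheory.RegularLocalRing.Defs
import Mathlib.RingTheory.Etale.Basic
import Mathlib.RingTheory.FinitePresentation
import Mathlib.RingTheory.IntegralClosure.IsIntegralClosure.Basic
import Mathlib.FieldTheory.IsAlgClosed.AlgebraicClosure
import Mathlib.LinearAlgebra.Basis.VectorSpace
import Mathlib.LinearAlgebra.Dimension.OrzechProperty
import Mathlib.LinearAlgebra.Dimension.Constructions
import Groth.Prelude.Def_SGA1
import Groth.Agent.EGA41Lib.IntDim
import Groth.Agent.RegLoc6.Basic

/-!
# Kummer algebras over regular local rings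

`A[T_1, …, T_r]/(T_i ^ n_i - f_i)` is finite, contains `A`, is regular local when the `f_i` are part
of a regular system of parameters, and is formally étale after inverting the `f_i` when the `n_i`
are invertible.
-/

set_option autoImplicit false
set_option backward.isDefEq.respectTransparency false
set_option backward.isDefEq.respectTransparency.types false
set_option linter.style.haveILetI false

universe u

open IsLocalRing

namespace Groth.Agent.KummerReg24

section SquareZero

variable {S : Type*} [CommRing S]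

theorem add_pow_of_mul_self_eq_zero (y : S) {e : S} (he : e * e = 0) :
    ∀ m : ℕ, (y + e) ^ (m + 1) = y ^ (m + 1) + ((m + 1 : ℕ) : S) * y ^ m * e
  | 0 => by simp
  | m + 1 => by
    have h := add_pow_of_mul_self_eq_zero y he m
    calc (y + e) ^ (m + 1 + 1) = (y + e) ^ (m + 1) * (y + e) := pow_succ _ _
      _ = y ^ (m + 1 + 1) + ((m + 1 + 1 : ℕ) : S) * y ^ (m + 1) * e
            + ((m + 1 : ℕ) : S) * y ^ m * (e * e) := by rw [h]; push_cast; ring
      _ = _ := by rw [he]; ring

theorem mul_eq_zero_of_sq_eq_bot {I : Ideal S} (hI : I ^ 2 = ⊥) {x y : S} (hx : x ∈ I) (hy : y ∈ I) :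
    x * y = 0 := by
  rw [← Ideal.mem_bot, ← hI, pow_two]
  exact Ideal.mul_mem_mul hx hy

theorem isUnit_of_mk {I : Ideal S} (hI : I ^ 2 = ⊥) {a : S} (ha : IsUnit (Ideal.Quotient.mk I a)) :
    IsUnit a := by
  obtain ⟨c, hc⟩ := ha.exists_right_inv
  obtain ⟨b, rfl⟩ := Ideal.Quotient.mk_surjective c
  have hab : a * b - 1 ∈ I := by
    rw [← Ideal.Quotient.eq_zero_iff_mem, map_sub, map_mul, hc, map_one, sub_self]
  have h0 := mul_eq_zero_of_sq_eq_bot hI hab hab
  exact IsUnit.of_mul_eq_one (b * (2 - a * b)) (by linear_combination -h0)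

theorem exists_root_lift {I : Ideal S} (hI : I ^ 2 = ⊥) {n : ℕ} (hn : 1 ≤ n) (hu : IsUnit (n : S)) {g : S}
    (hg : IsUnit g) {y : S} (hy : y ^ n - g ∈ I) : ∃ z, z - y ∈ I ∧ z ^ n = g := by
  obtain ⟨m, rfl⟩ : ∃ m, n = m + 1 := ⟨n - 1, by omega⟩
  have hyn : IsUnit (y ^ (m + 1)) := by
    refine isUnit_of_mk hI ?_
    rw [(Ideal.Quotient.eq (x := y ^ (m + 1)) (y := g)).2 hy]
    exact hg.map _
  have hd : IsUnit (((m + 1 : ℕ) : S) * y ^ m) :=
    hu.mul (((isUnit_pow_iff (Nat.succ_ne_zero m)).1 hyn).pow m)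
  obtain ⟨c, hc⟩ := hd.exists_right_inv
  have hmem : -((y ^ (m + 1) - g) * c) ∈ I := I.neg_mem (I.mul_mem_right _ hy)
  refine ⟨y + -((y ^ (m + 1) - g) * c), by rw [add_sub_cancel_left]; exact hmem, ?_⟩
  rw [add_pow_of_mul_self_eq_zero y (mul_eq_zero_of_sq_eq_bot hI hmem hmem) m]
  linear_combination -(y ^ (m + 1) - g) * hc

theorem root_unique {I : Ideal S} (hI : I ^ 2 = ⊥) {n : ℕ} (hn : 1 ≤ n) (hu : IsUnit (n : S)) {z w : S}
    (hw : IsUnit w) (hzw : z - w ∈ I) (h : z ^ n = w ^ n) : z = w := by
  obtain ⟨m, rfl⟩ : ∃ m, n = m + 1 := ⟨n - 1, by omega⟩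
  have h2 := add_pow_of_mul_self_eq_zero w (mul_eq_zero_of_sq_eq_bot hI hzw hzw) m
  rw [add_sub_cancel, h] at h2
  have h3 : ((m + 1 : ℕ) : S) * w ^ m * (z - w) = 0 := by linear_combination -h2
  exact sub_eq_zero.1 ((hu.mul (hw.pow m)).mul_right_eq_zero.1 h3)

end SquareZero

section Kummer

variable (A : Type u) [CommRing A] {r : ℕ} (f : Fin r → A) (n : Fin r → ℕ)

/-- The class of `T_i`. -/
noncomputable def T (i : Fin r) : SGA1.kummerAlg A f n := Ideal.Quotient.mk _ (MvPolynomial.X i)

theorem T_pow (i : Fin r) : T A f n i ^ n i = algebraMap A (SGA1.kummerAlg A f n) (f i) := by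
  rw [T, ← map_pow, IsScalarTower.algebraMap_apply A (MvPolynomial (Fin r) A) (SGA1.kummerAlg A f n),
    Ideal.Quotient.algebraMap_eq, MvPolynomial.algebraMap_eq, Ideal.Quotient.eq]
  exact Ideal.subset_span ⟨i, rfl⟩

theorem algHom_ext' {S : Type*} [CommRing S] [Algebra A S] {g h : SGA1.kummerAlg A f n →ₐ[A] S}
    (H : ∀ i, g (T A f n i) = h (T A f n i)) : g = h :=
  Ideal.Quotient.algHom_ext A (MvPolynomial.algHom_ext fun i => H i)

theorem exists_algHom {S : Type*} [CommRing S] [Algebra A S] (z : Fin r → S)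
    (hz : ∀ i, z i ^ n i = algebraMap A S (f i)) :
    ∃ g : SGA1.kummerAlg A f n →ₐ[A] S, ∀ i, g (T A f n i) = z i := by
  refine ⟨Ideal.Quotient.liftₐ _ (MvPolynomial.aeval z) ?_, fun i => ?_⟩
  · intro a ha
    have hle : Ideal.span (Set.range fun i => (MvPolynomial.X i : MvPolynomial (Fin r) A) ^ n i -
        MvPolynomial.C (f i)) ≤ RingHom.ker (MvPolynomial.aeval z) := by
      rw [Ideal.span_le]
      rintro _ ⟨i, rfl⟩
      simp [hz i]
    exact hle ha
  · exact MvPolynomial.aeval_X z i

variable {n} (hn : ∀ i, 1 ≤ n i)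

include hn in
theorem isIntegral : Algebra.IsIntegral A (SGA1.kummerAlg A f n) := by
  refine ⟨fun b => ?_⟩
  obtain ⟨p, rfl⟩ := Ideal.Quotient.mk_surjective b
  induction p using MvPolynomial.induction_on with
  | C a =>
    exact isIntegral_algebraMap (x := a)
  | add p q hp hq => rw [map_add]; exact hp.add hq
  | mul_X p i hp =>
    rw [map_mul]
    refine hp.mul (IsIntegral.of_pow (hn i) ?_)
    show IsIntegral A (T A f n i ^ n i)
    rw [T_pow]
    exact isIntegral_algebraMap

include hn in
theorem injective_algebraMap [IsDomain A] : Function.Injective (algebraMap A (SGA1.kummerAlg A f n)) := by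
  let K := AlgebraicClosure (FractionRing A)
  have hinj : Function.Injective (algebraMap A K) := by
    rw [IsScalarTower.algebraMap_eq A (FractionRing A) K]
    exact (algebraMap (FractionRing A) K).injective.comp (IsFractionRing.injective A _)
  choose z hz using fun i => IsAlgClosed.exists_pow_nat_eq (algebraMap A K (f i)) (hn i)
  obtain ⟨g, -⟩ := exists_algHom A f n z hz
  refine Function.Injective.of_comp (f := g) ?_
  have : (g : SGA1.kummerAlg A f n → K) ∘ algebraMap A (SGA1.kummerAlg A f n) = algebraMap A K :=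
    funext fun a => g.commutes a
  rw [this]
  exact hinj

include hn in
/-- The Kummer algebra is regular local and the roots are part of a regular system of parameters. -/
theorem isRegularLocalRing_and_li [IsRegularLocalRing A] (hm : ∀ i, f i ∈ maximalIdeal A)
    (hf : LinearIndependent (ResidueField A) (fun i => (maximalIdeal A).toCotangent ⟨f i, hm i⟩)) :
    ∃ _ : IsRegularLocalRing (SGA1.kummerAlg A f n),
      ∃ hT : ∀ i, T A f n i ∈ maximalIdeal (SGA1.kummerAlg A f n),
        LinearIndependent (ResidueField (SGA1.kummerAlg A f n))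
          (fun i => (maximalIdeal (SGA1.kummerAlg A f n)).toCotangent ⟨T A f n i, hT i⟩) := by
  classical
  haveI := RegLoc6.isDomain_of_isRegularLocalRing A
  have hinj := injective_algebraMap A f hn
  haveI := isIntegral A f hn
  -- complete `f` to a regular system of parameters
  let b := Module.Basis.sumExtend hf
  haveI : Finite (Fin r ⊕ Module.Basis.sumExtendIndex hf) := Module.Finite.finite_basis b
  haveI : Fintype (Fin r ⊕ Module.Basis.sumExtendIndex hf) := Fintype.ofFinite _
  have hcard : Module.finrank (ResidueField A) (CotangentSpace A) =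
      Nat.card (Fin r ⊕ Module.Basis.sumExtendIndex hf) := Module.finrank_eq_nat_card_basis b
  haveI : Fintype (Module.Basis.sumExtendIndex hf) :=
    Fintype.ofInjective _ (Sum.inr_injective (α := Fin r))
  choose y hy using fun j : Module.Basis.sumExtendIndex hf =>
    (maximalIdeal A).toCotangent_surjective (j : CotangentSpace A)
  -- the maximal ideal of the Kummer algebra
  let G : Set (SGA1.kummerAlg A f n) := Set.range (T A f n) ∪
    Set.range (fun j => algebraMap A (SGA1.kummerAlg A f n) (y j : A))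
  let M : Ideal (SGA1.kummerAlg A f n) := Ideal.span G
  have hTM : ∀ i, T A f n i ∈ M := fun i => Ideal.subset_span (Or.inl ⟨i, rfl⟩)
  have hmM : (maximalIdeal A).map (algebraMap A (SGA1.kummerAlg A f n)) ≤ M := by
    let J : Ideal A := Ideal.span (Set.range f ∪ Set.range fun j => (y j : A))
    have hJ : maximalIdeal A ≤ J := by
      refine Submodule.le_of_le_smul_of_le_jacobson_bot (maximalIdeal A).fg_of_isNoetherianRing
        (maximalIdeal_le_jacobson _) fun x hx => ?_
      have htop : Submodule.span A (Set.range b) = ⊤ := by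
        rw [← Submodule.restrictScalars_span A (ResidueField A) residue_surjective, b.span_eq,
          Submodule.restrictScalars_top]
      have hx' : (maximalIdeal A).toCotangent ⟨x, hx⟩ ∈ Submodule.span A (Set.range b) := by
        rw [htop]; trivial
      have hb : Set.range b ⊆ (maximalIdeal A).toCotangent '' {z | (z : A) ∈ J} := by
        rintro _ ⟨i | j, rfl⟩
        · exact ⟨⟨f i, hm i⟩, Ideal.subset_span (Or.inl ⟨i, rfl⟩), by simp [b, Module.Basis.sumExtend]; rfl⟩
        · exact ⟨y j, Ideal.subset_span (Or.inr ⟨j, rfl⟩), by rw [hy j]; simp [b, Module.Basis.sumExtend]; rfl⟩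
      have hx'' : (maximalIdeal A).toCotangent ⟨x, hx⟩ ∈
          (Submodule.comap (maximalIdeal A).subtype J).map (maximalIdeal A).toCotangent := by
        refine (Submodule.span_le.2 fun v hv => ?_) hx'
        obtain ⟨z, hz, rfl⟩ := hb hv
        exact ⟨z, hz, rfl⟩
      obtain ⟨z, hz, hzx⟩ := hx''
      have hd := ((maximalIdeal A).toCotangent_eq).1 hzx
      rw [pow_two, ← smul_eq_mul] at hd
      rw [show x = (z : A) + -((z : A) - x) by ring]
      exact Submodule.add_mem_sup hz (Submodule.neg_mem _ hd)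
    refine Ideal.map_le_iff_le_comap.2 (hJ.trans (Ideal.span_le.2 ?_))
    rintro _ (⟨i, rfl⟩ | ⟨j, rfl⟩)
    · show algebraMap A _ (f i) ∈ M
      rw [← T_pow]
      exact Ideal.pow_mem_of_mem _ (hTM i) _ (hn i)
    · exact Ideal.subset_span (Or.inr ⟨j, rfl⟩)
  have hdecomp : ∀ x, ∃ a : A, x - algebraMap A (SGA1.kummerAlg A f n) a ∈ M := by
    intro x
    obtain ⟨p, rfl⟩ := Ideal.Quotient.mk_surjective x
    induction p using MvPolynomial.induction_on with
    | C a =>
      exact ⟨a, by convert M.zero_mem; exact sub_eq_zero.2 rfl⟩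
    | add p q hp hq =>
      obtain ⟨a, ha⟩ := hp
      obtain ⟨c, hc⟩ := hq
      refine ⟨a + c, ?_⟩
      rw [map_add, map_add, add_sub_add_comm]
      exact M.add_mem ha hc
    | mul_X p i hp =>
      refine ⟨0, ?_⟩
      rw [map_mul, map_zero, sub_zero]
      exact M.mul_mem_left _ (hTM i)
  have hmax : ∀ P : Ideal (SGA1.kummerAlg A f n), P.IsMaximal → P = M := by
    intro P hP
    have hPc : P.comap (algebraMap A _) = maximalIdeal A :=
      IsLocalRing.eq_maximalIdeal (Ideal.isMaximal_comap_of_isIntegral_of_isMaximal P)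
    have hMP : M ≤ P := by
      refine Ideal.span_le.2 ?_
      rintro _ (⟨i, rfl⟩ | ⟨j, rfl⟩)
      · refine hP.isPrime.mem_of_pow_mem (n i) ?_
        rw [T_pow]
        exact Ideal.mem_comap.1 (hPc ▸ hm i)
      · exact Ideal.mem_comap.1 (by rw [hPc]; exact (y j).2)
    refine le_antisymm (fun x hx => ?_) hMP
    obtain ⟨a, ha⟩ := hdecomp x
    have ha' : a ∈ maximalIdeal A := by
      rw [← hPc, Ideal.mem_comap]
      have h2 := P.sub_mem hx (hMP ha)
      rwa [sub_sub_cancel] at h2
    have h3 := M.add_mem ha (hmM (Ideal.mem_map_of_mem _ ha'))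
    rwa [sub_add_cancel] at h3
  haveI : Nontrivial (SGA1.kummerAlg A f n) := Function.Injective.nontrivial hinj
  obtain ⟨P, hP⟩ := Ideal.exists_maximal (SGA1.kummerAlg A f n)
  haveI : IsLocalRing (SGA1.kummerAlg A f n) :=
    IsLocalRing.of_unique_max_ideal ⟨M, ⟨by rw [← hmax P hP]; exact hP, hmax⟩⟩
  have hM : maximalIdeal (SGA1.kummerAlg A f n) = M := hmax _ (maximalIdeal.isMaximal _)
  have hdim : ringKrullDim (SGA1.kummerAlg A f n) =
      (Nat.card (Fin r ⊕ Module.Basis.sumExtendIndex hf) : WithBot ℕ∞) := by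
    rw [EGA41Lib.ringKrullDim_eq_of_integral hinj, ← (IsRegularLocalRing.iff_finrank_cotangentSpace A).1 ‹_›,
      hcard]
  haveI hreg : IsRegularLocalRing (SGA1.kummerAlg A f n) := by
    refine @IsRegularLocalRing.of_spanFinrank_maximalIdeal_le (SGA1.kummerAlg A f n) _ _ inferInstance ?_
    rw [hdim, hM, Nat.cast_le, Nat.card_sum]
    refine (Submodule.spanFinrank_span_le_ncard_of_finite ((Set.finite_range _).union (Set.finite_range _))).trans
      ((Set.ncard_union_le _ _).trans (Nat.add_le_add ?_ ?_))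
    · rw [← Nat.card_coe_set_eq]; exact Finite.card_range_le _
    · rw [← Nat.card_coe_set_eq]; exact Finite.card_range_le _
  refine ⟨hreg, fun i => hM ▸ hTM i, ?_⟩
  let B := SGA1.kummerAlg A f n
  let v : Fin r ⊕ Module.Basis.sumExtendIndex hf → maximalIdeal B :=
    Sum.elim (fun i => ⟨T A f n i, hM ▸ hTM i⟩)
      (fun j => ⟨algebraMap A B (y j : A), hM ▸ Ideal.subset_span (Or.inr ⟨j, rfl⟩)⟩)
  have htopm : Submodule.span B (Set.range v) = ⊤ := by
    refine Submodule.map_injective_of_injective (maximalIdeal B).injective_subtype ?_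
    rw [Submodule.map_span, Submodule.map_top, Submodule.range_subtype]
    refine (congrArg (Submodule.span B) ?_).trans hM.symm
    rw [← Set.range_comp, show G = Set.range (T A f n) ∪ Set.range (fun j => algebraMap A B (y j : A)) from rfl,
      ← Set.Sum.elim_range]
    exact congrArg Set.range (funext fun x => by rcases x with i | j <;> rfl)
  have hspan : ⊤ ≤ Submodule.span (ResidueField B) (Set.range fun x => (maximalIdeal B).toCotangent (v x)) := by
    intro z _
    obtain ⟨z, rfl⟩ := (maximalIdeal B).toCotangent_surjective z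
    have hz : z ∈ Submodule.span B (Set.range v) := htopm ▸ trivial
    induction hz using Submodule.span_induction with
    | mem w hw => obtain ⟨i, rfl⟩ := hw; exact Submodule.subset_span ⟨i, rfl⟩
    | zero => rw [map_zero]; exact zero_mem _
    | add a c _ _ ha hc => rw [map_add]; exact add_mem (ha trivial) (hc trivial)
    | smul a w _ hw =>
      rw [map_smul, ← IsScalarTower.algebraMap_smul (ResidueField B) a]
      exact Submodule.smul_mem _ _ (hw trivial)
  have hfin : Fintype.card (Fin r ⊕ Module.Basis.sumExtendIndex hf) =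
      Module.finrank (ResidueField B) (CotangentSpace B) := by
    have h := ((IsRegularLocalRing.iff_finrank_cotangentSpace B).1 hreg).trans hdim
    rw [← Nat.card_eq_fintype_card]
    exact_mod_cast h.symm
  exact (linearIndependent_of_top_le_span_of_card_eq_finrank hspan hfin).comp Sum.inl Sum.inl_injective

include hn in
theorem isRegularLocalRing [IsRegularLocalRing A] (hm : ∀ i, f i ∈ maximalIdeal A)
    (hf : LinearIndependent (ResidueField A) (fun i => (maximalIdeal A).toCotangent ⟨f i, hm i⟩)) :
    IsRegularLocalRing (SGA1.kummerAlg A f n) :=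
  (isRegularLocalRing_and_li A f hn hm hf).choose

include hn in
theorem formallyEtale_away (hu : ∀ i, IsUnit (n i : A)) :
    Algebra.FormallyEtale A (Localization.Away (algebraMap A (SGA1.kummerAlg A f n) (∏ i, f i))) := by
  rw [Algebra.FormallyEtale.iff_comp_bijective]
  intro S _ _ I hI
  let L := Localization.Away (algebraMap A (SGA1.kummerAlg A f n) (∏ i, f i))
  let ι : SGA1.kummerAlg A f n →ₐ[A] L := IsScalarTower.toAlgHom A _ L
  have hF : IsUnit (algebraMap A L (∏ i, f i)) := by
    rw [IsScalarTower.algebraMap_apply A (SGA1.kummerAlg A f n) L]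
    exact IsLocalization.Away.algebraMap_isUnit _
  have hunit : ∀ (φ : L →ₐ[A] S ⧸ I) (i : Fin r), IsUnit (algebraMap A S (f i)) := by
    intro φ i
    have h1 : IsUnit (algebraMap A S (∏ i, f i)) := by
      refine isUnit_of_mk hI ?_
      rw [← Ideal.Quotient.mkₐ_eq_mk A, AlgHom.commutes, ← φ.commutes]
      exact hF.map φ
    exact isUnit_of_dvd_unit (map_dvd _ (Finset.dvd_prod_of_mem f (Finset.mem_univ i))) h1
  refine ⟨fun g h hgh => ?_, fun φ => ?_⟩
  · have key : g.comp ι = h.comp ι := by
      refine algHom_ext' A f n fun i => root_unique hI (hn i) ?_ ?_ ?_ ?_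
      · exact map_natCast (algebraMap A S) (n i) ▸ (hu i).map (algebraMap A S)
      · refine (isUnit_pow_iff (n := n i) (by have := hn i; omega)).1 ?_
        rw [← map_pow, T_pow, AlgHom.commutes]
        exact hunit ((Ideal.Quotient.mkₐ A I).comp g) i
      · rw [← Ideal.Quotient.eq_zero_iff_mem, map_sub, sub_eq_zero]
        exact DFunLike.congr_fun hgh (ι (T A f n i))
      · rw [← map_pow, ← map_pow, T_pow, AlgHom.commutes, AlgHom.commutes]
    refine IsLocalization.algHom_ext (Submonoid.powers (algebraMap A (SGA1.kummerAlg A f n) (∏ i, f i))) ?_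
    exact key
  · choose y hy using fun i => Ideal.Quotient.mk_surjective (I := I) (φ (ι (T A f n i)))
    have hyI : ∀ i, y i ^ n i - algebraMap A S (f i) ∈ I := by
      intro i
      rw [← Ideal.Quotient.eq_zero_iff_mem, map_sub, map_pow, hy, ← map_pow, ← map_pow, T_pow,
        AlgHom.commutes, AlgHom.commutes]
      exact sub_eq_zero.2 rfl
    choose z hz1 hz2 using fun i => exists_root_lift hI (hn i)
      (map_natCast (algebraMap A S) (n i) ▸ (hu i).map (algebraMap A S)) (hunit φ i) (hyI i)
    obtain ⟨g, hg⟩ := exists_algHom A f n z hz2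
    have hgu : ∀ s : Submonoid.powers (algebraMap A (SGA1.kummerAlg A f n) (∏ i, f i)),
        IsUnit (g s) := by
      rintro ⟨_, k, rfl⟩
      rw [map_pow, AlgHom.commutes, map_prod]
      exact (IsUnit.prod_univ_iff.2 (hunit φ)).pow k
    refine ⟨IsLocalization.liftAlgHom (S := L) hgu, ?_⟩
    refine IsLocalization.algHom_ext (Submonoid.powers (algebraMap A (SGA1.kummerAlg A f n) (∏ i, f i))) ?_
    refine algHom_ext' A f n fun i => ?_
    show Ideal.Quotient.mk I (IsLocalization.lift hgu (algebraMap _ L (T A f n i))) = φ (ι (T A f n i))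
    rw [IsLocalization.lift_eq, ← hy i, Ideal.Quotient.eq]
    exact (hg i).symm ▸ hz1 i

end Kummer

end Groth.Agent.KummerReg24
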