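import Groth.Agent.KummerReg24.Basic
import Groth.Agent.EtRam7.Tame
import Groth.Agent.EtRam7.TameChar
import Mathlib.FieldTheory.IntermediateField.Adjoin.Algebra
import Mathlib.FieldTheory.KummerPolynomial

/-!
# Extensions generated by roots of a uniformiser and of units are tame
-/

set_option autoImplicit false
set_option backward.isDefEq.respectTransparency false
set_option backward.isDefEq.respectTransparency.types false
set_option linter.style.haveILetI false

universe u

open IsLocalRing Polynomial

namespace Groth.Agent.KummerReg24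

theorem formallyEtale_of_isUnit {R : Type u} [CommRing R] {r : ℕ} (c : Fin r → R) (n : Fin r → ℕ)
    (hn : ∀ i, 1 ≤ n i) (hu : ∀ i, IsUnit (n i : R)) (hc : ∀ i, IsUnit (c i)) :
    Algebra.FormallyEtale R (SGA1.kummerAlg R c n) := by
  haveI := formallyEtale_away R c hn hu
  have hx : IsUnit (algebraMap R (SGA1.kummerAlg R c n) (∏ i, c i)) :=
    (IsUnit.prod_univ_iff.2 hc).map _
  exact Algebra.FormallyEtale.of_equiv
    ((IsLocalization.atUnit (SGA1.kummerAlg R c n)
      (Localization.Away (algebraMap R (SGA1.kummerAlg R c n) (∏ i, c i))) _ hx).symm.restrictScalars R)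

theorem finite {R : Type u} [CommRing R] {r : ℕ} (c : Fin r → R) {n : Fin r → ℕ} (hn : ∀ i, 1 ≤ n i) :
    Module.Finite R (SGA1.kummerAlg R c n) :=
  haveI := isIntegral R c hn
  Algebra.IsIntegral.finite

/-- A field generated over a DVR by roots, of invertible order, of a uniformiser and of units is
tamely ramified. -/
theorem isTamelyRamified_of_kummer {A L : Type u} [CommRing A] [IsDomain A] [IsDiscreteValuationRing A]
    [Field L] (g : A →+* L) (hg : Function.Injective g) {r : ℕ} (c : Fin r → A) (n : Fin r → ℕ)
    (hn : ∀ i, 1 ≤ n i) (hu : ∀ i, IsUnit (n i : A)) (i₀ : Fin r)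
    (hi₀ : maximalIdeal A = Ideal.span {c i₀}) (hc : ∀ j, j ≠ i₀ → IsUnit (c j))
    (t : Fin r → L) (ht : ∀ j, t j ^ n j = g (c j))
    (hgen : Subfield.closure (Set.range g ∪ Set.range t) = ⊤) :
    EtRam.IsTamelyRamified A g := by
  classical
  letI : Algebra A L := g.toAlgebra
  let K := FractionRing A
  letI : Algebra K L := (IsFractionRing.lift (A := A) (K := K) hg).toAlgebra
  haveI : IsScalarTower A K L :=
    IsScalarTower.of_algebraMap_eq fun a => (IsFractionRing.lift_algebraMap (K := K) hg a).symm
  have htK : ∀ j, t j ^ n j = algebraMap K L (algebraMap A K (c j)) := fun j => by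
    rw [← IsScalarTower.algebraMap_apply A K L]; exact ht j
  set π := c i₀ with hπdef
  have hπi : Irreducible π := (IsDiscreteValuationRing.irreducible_iff_uniformizer π).2 hi₀
  have hc0 : ∀ j, c j ≠ 0 := fun j => by
    rcases eq_or_ne j i₀ with rfl | h
    exacts [hπi.ne_zero, (hc j h).ne_zero]
  have hsep : ∀ j, IsSeparable K (t j) := by
    intro j
    have hne : (n j : K) ≠ 0 := by
      have h := (hu j).map (algebraMap A K)
      rw [map_natCast] at h
      exact h.ne_zero
    have hc' : algebraMap A K (c j) ≠ 0 := fun e =>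
      hc0 j (IsFractionRing.injective A K (e.trans (map_zero _).symm))
    refine (Polynomial.separable_X_pow_sub_C _ hne hc').of_dvd (minpoly.dvd K (t j) ?_)
    simp [htK j]
  haveI hfin : FiniteDimensional K (IntermediateField.adjoin K (Set.range t)) := by
    haveI : Finite (Set.range t) := Set.finite_range t
    exact IntermediateField.finiteDimensional_adjoin fun x hx => by
      obtain ⟨j, rfl⟩ := hx; exact (hsep j).isIntegral
  have htop : IntermediateField.adjoin K (Set.range t) = ⊤ := by
    refine top_le_iff.1 fun z _ => ?_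
    have hz : z ∈ Subfield.closure (Set.range g ∪ Set.range t) := by rw [hgen]; trivial
    refine (Subfield.closure_le (t := (IntermediateField.adjoin K (Set.range t)).toSubfield)).2 ?_ hz
    rintro _ (⟨a, rfl⟩ | ⟨j, rfl⟩)
    · show g a ∈ IntermediateField.adjoin K (Set.range t)
      rw [show g a = algebraMap K L (algebraMap A K a) from IsScalarTower.algebraMap_apply A K L a]
      exact IntermediateField.algebraMap_mem _ _
    · exact IntermediateField.subset_adjoin K _ ⟨j, rfl⟩
  haveI : FiniteDimensional K L := by
    rw [htop] at hfin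
    exact LinearEquiv.finiteDimensional (IntermediateField.topEquiv (F := K) (E := L)).toLinearEquiv
  haveI : Algebra.IsSeparable K L := by
    have : Algebra.IsSeparable K (IntermediateField.adjoin K (Set.range t)) :=
      (IntermediateField.isSeparable_adjoin_iff_isSeparable K L).2 (by rintro _ ⟨j, rfl⟩; exact hsep j)
    rw [htop] at this
    exact Algebra.IsSeparable.of_algHom K _ (IntermediateField.topEquiv (F := K) (E := L)).symm.toAlgHom
  have halgtop : Algebra.adjoin K (Set.range t) = ⊤ := by
    rw [← IntermediateField.adjoin_toSubalgebra_of_isAlgebraic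
      (fun x _ => (Algebra.IsAlgebraic.of_finite K L).isAlgebraic x), htop, IntermediateField.top_toSubalgebra]
  set e := n i₀ with hedef
  have he0 : 0 < e := hn i₀
  obtain ⟨hdom, hdvr, hfinA, hinjA', hmaxA', hrn, -⟩ := EtRam7.exists_kummerRing A π hπi e he0
  let A' := AdjoinRoot (X ^ e - C π : A[X])
  have hev : eval₂ g (t i₀) (X ^ e - C π : A[X]) = 0 := by simp [hedef, hπdef, ht i₀]
  letI : Algebra A' L := (AdjoinRoot.lift g (t i₀) hev).toAlgebra
  have hcompat : (algebraMap A' L).comp (AdjoinRoot.of (X ^ e - C π)) = (algebraMap K L).comp (algebraMap A K) :=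
    RingHom.ext fun a => (AdjoinRoot.lift_of hev).trans (IsScalarTower.algebraMap_apply A K L a)
  have he : (e : ResidueField A) ≠ 0 := by
    have h := (hu i₀).map (IsLocalRing.residue A)
    rw [map_natCast] at h
    exact h.ne_zero
  refine EtRam7.isTamelyRamified_of_unramified_over_root (K := K) π hi₀ e he0 he L (AlgHom.id K L) hcompat ?_
  intro _
  have hroot : algebraMap A' L (AdjoinRoot.root _) = t i₀ := AdjoinRoot.lift_root hev
  have hof : ∀ a, algebraMap A' L (algebraMap A A' a) = g a := fun a => AdjoinRoot.lift_of hev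
  let c' : Fin r → A' := Function.update (fun j => algebraMap A A' (c j)) i₀ 1
  let n' : Fin r → ℕ := Function.update n i₀ 1
  have hn' : ∀ j, 1 ≤ n' j := fun j => by
    rcases eq_or_ne j i₀ with rfl | h
    · simp [n']
    · simpa [n', h] using hn j
  have hu' : ∀ j, IsUnit (n' j : A') := fun j => by
    rcases eq_or_ne j i₀ with rfl | h
    · simp [n']
    · have h2 := (hu j).map (algebraMap A A')
      rw [map_natCast] at h2
      simpa [n', h] using h2
  have hc' : ∀ j, IsUnit (c' j) := fun j => by
    rcases eq_or_ne j i₀ with rfl | h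
    · simp [c']
    · simpa [c', h] using (hc j h).map (algebraMap A A')
  obtain ⟨φ, hφ⟩ := exists_algHom A' c' n' (Function.update t i₀ 1) fun j => by
    rcases eq_or_ne j i₀ with rfl | h
    · simp [n', c']
    · simp only [n', c', Function.update_of_ne h]
      rw [ht j, hof]
  haveI := formallyEtale_of_isUnit c' n' hn' hu' hc'
  haveI := finite c' hn'
  haveI : IsNoetherianRing (SGA1.kummerAlg A' c' n') := IsNoetherianRing.of_finite A' _
  let P : L → Prop := fun z => ∃ (s : SGA1.kummerAlg A' c' n') (m : ℕ), z * t i₀ ^ m = φ s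
  refine EtRam7.isUnramifiedExt_of_unramified (S := SGA1.kummerAlg A' c' n') (AdjoinRoot.root _) hmaxA'
    (algebraMap A' L) φ.toRingHom φ.comp_algebraMap ?_ (fun z => ?_) ?_
  · rw [hroot]
    intro h0
    refine hπi.ne_zero (hg ?_)
    rw [← ht i₀, h0, zero_pow (by have := hn i₀; omega), map_zero]
  · rw [hroot]
    show P z
    have hz : z ∈ Algebra.adjoin K (Set.range t) := by rw [halgtop]; trivial
    induction hz using Algebra.adjoin_induction with
    | mem x hx =>
      obtain ⟨j, rfl⟩ := hx
      rcases eq_or_ne j i₀ with rfl | h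
      · exact ⟨algebraMap A' _ (AdjoinRoot.root _), 0, by rw [pow_zero, mul_one, AlgHom.commutes, hroot]⟩
      · exact ⟨T A' c' n' j, 0, by rw [pow_zero, mul_one, hφ, Function.update_of_ne h]⟩
    | algebraMap k =>
      obtain ⟨a, s, rfl⟩ := IsLocalization.exists_mk'_eq (nonZeroDivisors A) k
      obtain ⟨m, v, hv⟩ := IsDiscreteValuationRing.eq_unit_mul_pow_irreducible (nonZeroDivisors.coe_ne_zero s) hπi
      refine ⟨algebraMap A' _ (algebraMap A A' (a * (v⁻¹ : Aˣ))), e * m, ?_⟩
      rw [AlgHom.commutes, hof, pow_mul, hedef, ht i₀]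
      have h1 : algebraMap K L (IsLocalization.mk' K a s) * g (s : A) = g a := by
        rw [show g (s : A) = algebraMap K L (algebraMap A K s) from IsScalarTower.algebraMap_apply A K L _,
          ← map_mul, IsLocalization.mk'_spec]
        exact (IsScalarTower.algebraMap_apply A K L a).symm
      rw [map_mul, ← h1, hv, map_mul, map_pow]
      calc _ = algebraMap K L (IsLocalization.mk' K a s) * g π ^ m * (g (v : A) * g (v⁻¹ : Aˣ)) := by
            rw [← map_mul g (v : A), Units.mul_inv, map_one, mul_one]
        _ = _ := by ring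
    | add x y _ _ hx hy =>
      obtain ⟨s, m, hs⟩ := hx
      obtain ⟨s', m', hs'⟩ := hy
      refine ⟨s * algebraMap A' _ (AdjoinRoot.root _) ^ m' + s' * algebraMap A' _ (AdjoinRoot.root _) ^ m,
        m + m', ?_⟩
      rw [map_add, map_mul, map_mul, map_pow, map_pow, AlgHom.commutes, hroot, ← hs, ← hs']
      ring
    | mul x y _ _ hx hy =>
      obtain ⟨s, m, hs⟩ := hx
      obtain ⟨s', m', hs'⟩ := hy
      refine ⟨s * s', m + m', ?_⟩
      rw [map_mul, ← hs, ← hs']
      ring
  · intro V hV x
    letI : Algebra A' V := ((algebraMap A' L).codRestrict V hV).toAlgebra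
    haveI : IsScalarTower A' V L := IsScalarTower.of_algebraMap_eq fun _ => rfl
    obtain ⟨v, hv⟩ := IsIntegrallyClosed.isIntegral_iff.1
      (((Algebra.IsIntegral.isIntegral (R := A') x).map φ).tower_top (A := V))
    exact (show φ x = v from hv.symm) ▸ v.2

end Groth.Agent.KummerReg24
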